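import Mathlib

/-!
# Choosing a variable along which a prime of a polynomial ring is algebraic
-/

set_option autoImplicit false

universe u

open MvPolynomial

noncomputable section

namespace Groth.Agent.SmoothParaLib

variable (A : Type u) [CommRing A] (n : ℕ)

/-- The polynomial ring in the variable `i` over the others. -/
def splitVar (i : Fin (n + 1)) : Polynomial (MvPolynomial (Fin n) A) ≃ₐ[A] MvPolynomial (Fin (n + 1)) A :=
  (finSuccEquiv A n).symm.trans (renameEquiv A (Equiv.swap 0 i))

variable {A n}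

theorem splitVar_C (i : Fin (n + 1)) (c : MvPolynomial (Fin n) A) :
    splitVar A n i (Polynomial.C c) = rename (Equiv.swap 0 i ∘ Fin.succ) c := by
  have h : (finSuccEquiv A n).symm (Polynomial.C c) = rename Fin.succ c := by
    rw [AlgEquiv.symm_apply_eq]
    induction c using MvPolynomial.induction_on with
    | C a => simp [finSuccEquiv_apply]
    | add p q hp hq => simp [hp, hq]
    | mul_X p j hp => simp [hp, finSuccEquiv_X_succ]
  show rename (Equiv.swap 0 i) ((finSuccEquiv A n).symm (Polynomial.C c)) = _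
  rw [h, rename_rename]

/-- A prime not extended from the base is algebraic along one of the variables. -/
theorem exists_splitVar (p : Ideal A) (P : Ideal (MvPolynomial (Fin (n + 1)) A)) [P.IsPrime]
    (hPp : P.comap C = p) (hne : ¬ P ≤ p.map C) :
    ∃ (i : Fin (n + 1)) (F : Polynomial (MvPolynomial (Fin n) A)),
      splitVar A n i F ∈ P ∧ ∃ j, splitVar A n i (Polynomial.C (F.coeff j)) ∉ P := by
  classical
  let π : A →+* A ⧸ p := Ideal.Quotient.mk p
  have h0 : ∀ f : MvPolynomial (Fin (n + 1)) A, map π f = 0 ↔ f ∈ p.map C := fun f => by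
    rw [mem_map_C_iff, MvPolynomial.ext_iff]
    simp only [coeff_map, coeff_zero]
    exact forall_congr' fun m => Ideal.Quotient.eq_zero_iff_mem
  obtain ⟨f, hfP, hf⟩ := Set.not_subset.1 hne
  have hex : ∃ d, ∃ f ∈ P, map π f ≠ 0 ∧ (map π f).totalDegree = d :=
    ⟨_, f, hfP, fun h => hf ((h0 f).1 h), rfl⟩
  obtain ⟨f, hfP, hf, hd⟩ := Nat.find_spec hex
  have hmin : ∀ g ∈ P, map π g ≠ 0 → (map π f).totalDegree ≤ (map π g).totalDegree := fun g hg hg0 =>
    hd ▸ Nat.find_le ⟨g, hg, hg0, rfl⟩
  obtain ⟨i, hi⟩ : ∃ i, degreeOf i (map π f) ≠ 0 := by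
    by_contra! h
    have ht : (map π f).totalDegree = 0 := by
      rw [totalDegree_eq_zero_iff]
      exact fun m hm x => Nat.le_zero.1 ((degreeOf_le_iff.1 (h x).le) m hm)
    obtain ⟨a, ha⟩ := Ideal.Quotient.mk_surjective (coeff 0 (map π f))
    have h1 : f - C a ∈ p.map C := (h0 _).1 (by
      rw [map_sub, map_C, show π a = _ from ha, ← totalDegree_eq_zero_iff_eq_C.1 ht, sub_self])
    have h2 : C a ∈ P := by
      have := sub_mem hfP (Ideal.map_le_iff_le_comap.2 hPp.ge h1)
      rwa [sub_sub_cancel] at this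
    apply hf
    rw [totalDegree_eq_zero_iff_eq_C.1 ht, ← ha, show Ideal.Quotient.mk p a = 0 from
      Ideal.Quotient.eq_zero_iff_mem.2 (hPp ▸ h2), map_zero]
  refine ⟨i, (splitVar A n i).symm f, by rwa [AlgEquiv.apply_symm_apply], ?_⟩
  by_contra! hall
  let σ := Equiv.swap (0 : Fin (n + 1)) i
  let fb := map π f
  have hsq : ∀ g : MvPolynomial (Fin (n + 1)) A,
      finSuccEquiv (A ⧸ p) n (map π g) = (finSuccEquiv A n g).map (map π) := fun g => by
    induction g using MvPolynomial.induction_on with
    | C a => simp [finSuccEquiv_apply]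
    | add p q hp hq => simp [hp, hq]
    | mul_X p j hp =>
      refine Fin.cases ?_ (fun j => ?_) j <;> simp [hp, finSuccEquiv_X_zero, finSuccEquiv_X_succ]
  let F : Polynomial (MvPolynomial (Fin n) (A ⧸ p)) := finSuccEquiv (A ⧸ p) n (rename σ fb)
  have hF0 : F ≠ 0 := (map_ne_zero_iff _ (finSuccEquiv (A ⧸ p) n).injective).2
    ((map_ne_zero_iff _ (rename_injective _ σ.injective)).2 hf)
  have hFd : F.natDegree = degreeOf i fb := by
    rw [natDegree_finSuccEquiv, show (0 : Fin (n + 1)) = σ i by simp [σ], degreeOf_rename_of_injective σ.injective]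
  let c := F.coeff F.natDegree
  have hc : c ≠ 0 := Polynomial.leadingCoeff_ne_zero.2 hF0
  have hG : ((splitVar A n i).symm f) = finSuccEquiv A n (rename σ f) := by
    show finSuccEquiv A n ((renameEquiv A σ).symm f) = _
    rw [renameEquiv_symm, Equiv.symm_swap]
    rfl
  have hceq : c = map π (((splitVar A n i).symm f).coeff F.natDegree) := by
    rw [hG, ← Polynomial.coeff_map (map π), ← hsq, map_rename]
  have hcP := hall F.natDegree
  have hle : (map π f).totalDegree ≤ c.totalDegree := by
    refine (hmin _ hcP ?_).trans ?_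
    · rw [splitVar_C, map_rename, ← hceq]
      exact (map_ne_zero_iff _ (rename_injective _ (σ.injective.comp (Fin.succ_injective _)))).2 hc
    · rw [splitVar_C, map_rename, ← hceq]
      exact totalDegree_rename_le _ _
  have h3 : c.totalDegree + F.natDegree ≤ fb.totalDegree :=
    (totalDegree_coeff_finSuccEquiv_add_le (rename σ fb) F.natDegree hc).trans (totalDegree_rename_le _ _)
  have h4 : fb = map π f := rfl
  rw [hFd, h4] at h3
  omega

/-- Primes of a polynomial ring in no variables are extended. -/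
theorem le_map_C_of_isEmpty (p : Ideal A) (P : Ideal (MvPolynomial (Fin 0) A)) (hPp : P.comap C = p) :
    P ≤ p.map C := fun f hf => by
  obtain ⟨a, rfl⟩ := C_surjective (Fin 0) f
  exact Ideal.mem_map_of_mem _ (hPp ▸ hf)

end Groth.Agent.SmoothParaLib
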