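import Groth.Agent.SmoothParaLib.Core
import Groth.Agent.SmoothParaLib.Variable
import Groth.Agent.SerreLib.Normal
import Groth.Agent.FlatDepth.Basic
import Groth.Agent.S2821
import Groth.Agent.S2834

/-!
# Smooth local algebras over normal local rings are parafactorial off the closed fibre's generic points
-/

set_option autoImplicit false
set_option linter.style.haveILetI false

universe u

open IsLocalRing

noncomputable section

namespace Groth.Agent.SmoothParaLib

/-- Changing the base to a localisation keeps the properties of being formally étale, flat, essentially of finite type. -/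
theorem of_localizedBase {C C' B : Type u} [CommRing C] [CommRing C'] [CommRing B] [Algebra C C'] [Algebra C B]
    [Algebra C' B] [IsScalarTower C C' B] (M : Submonoid C) [IsLocalization M C']
    [Algebra.FormallyEtale C B] [Module.Flat C B] [Algebra.EssFiniteType C B] :
    Algebra.FormallyEtale C' B ∧ Module.Flat C' B ∧ Algebra.EssFiniteType C' B :=
  haveI := Algebra.FormallyUnramified.of_isLocalization (R := C) (Rₘ := C') M
  ⟨.of_restrictScalars (R := C), (Module.flat_iff_of_isLocalization C' M B).2 inferInstance, .of_comp C C' B⟩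

/-- The local ring of the base, acting on a local algebra. -/
def lamLoc {C B : Type u} [CommRing C] [CommRing B] [IsLocalRing B] [Algebra C B] (P : Ideal C) [P.IsPrime]
    (hP : (maximalIdeal B).comap (algebraMap C B) = P) : Localization.AtPrime P →+* B :=
  IsLocalization.lift (M := P.primeCompl) (g := algebraMap C B) fun y => by
    by_contra h
    exact y.2 (hP ▸ (mem_maximalIdeal _).2 h)

theorem isLocalHom_lamLoc {C B : Type u} [CommRing C] [CommRing B] [IsLocalRing B] [Algebra C B] (P : Ideal C) [P.IsPrime]
    (hP : (maximalIdeal B).comap (algebraMap C B) = P) : IsLocalHom (lamLoc P hP) := by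
  refine ((local_hom_TFAE _).out 0 2).mpr ?_
  rw [← Localization.AtPrime.map_eq_maximalIdeal, Ideal.map_map, lamLoc, IsLocalization.lift_comp,
    Ideal.map_le_iff_le_comap, hP]

/-- The regular case. -/
theorem isRegularLocalRing_of_formallyEtale {A C B : Type u} [CommRing A] [CommRing C] [CommRing B] [IsLocalRing B]
    [IsNoetherianRing C] [IsNoetherianRing B] [Algebra C A] [Algebra C B] [Algebra A B] [IsScalarTower C A B]
    (M : Submonoid C) [IsLocalization M A] [IsRegularRing A]
    [Algebra.FormallyEtale C B] [Module.Flat C B] [Algebra.EssFiniteType C B] : IsRegularLocalRing B := by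
  obtain ⟨h1, h2, h3⟩ := of_localizedBase (C := C) (C' := A) (B := B) M
  let P : Ideal A := (maximalIdeal B).comap (algebraMap A B)
  haveI : P.IsPrime := Ideal.IsPrime.comap _
  let L := Localization.AtPrime P
  letI : Algebra L B := (lamLoc P rfl).toAlgebra
  haveI : IsScalarTower A L B := IsScalarTower.of_algebraMap_eq fun x => (IsLocalization.lift_eq _ _).symm
  haveI : IsLocalHom (algebraMap L B) := isLocalHom_lamLoc P rfl
  haveI : IsNoetherianRing A := IsLocalization.isNoetherianRing M A inferInstance
  obtain ⟨h1', h2', h3'⟩ := of_localizedBase (C := A) (C' := L) (B := B) P.primeCompl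
  exact (Depth.isRegularLocalRing_iff_of_map_maximalIdeal L B Algebra.FormallyUnramified.map_maximalIdeal).2
    (IsRegularRing.isRegularLocalRing_localization P)

/-- Formally étale over a polynomial ring in one variable, not extended from the base. -/
theorem isParafactorial_of_variable (A B : Type u) [CommRing A] [IsNoetherianRing A] [IsLocalRing A]
    [CommRing B] [IsNoetherianRing B] [IsLocalRing B] [Algebra A B] [Algebra (Polynomial A) B]
    [IsScalarTower A (Polynomial A) B] [IsLocalHom (algebraMap A B)]
    [Algebra.FormallyEtale (Polynomial A) B] [Module.Flat (Polynomial A) B] [Algebra.EssFiniteType (Polynomial A) B]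
    (F : Polynomial A) (hF : algebraMap (Polynomial A) B F ∈ maximalIdeal B)
    (j : ℕ) (hj : IsUnit (F.coeff j)) (hd : (2 : ℕ∞) ≤ LocCoh.depth A A) :
    ParaF.IsParafactorialLocalRing B := by
  let t : ResidueField B := residue B (algebraMap (Polynomial A) B Polynomial.X)
  have hev : ∀ G : Polynomial A, Polynomial.aeval t (G.map (residue A)) = residue B (algebraMap (Polynomial A) B G) := by
    intro G
    rw [Polynomial.aeval_def, Polynomial.eval₂_map]
    induction G using Polynomial.induction_on' with
    | add p q hp hq => rw [Polynomial.eval₂_add, hp, hq, map_add, map_add]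
    | monomial k a =>
      rw [Polynomial.eval₂_monomial, ← Polynomial.C_mul_X_pow_eq_monomial, map_mul, map_mul, map_pow, map_pow,
        ← Polynomial.algebraMap_eq, ← IsScalarTower.algebraMap_apply A (Polynomial A) B]
      rfl
  have hint : IsIntegral (ResidueField A) t := by
    refine IsAlgebraic.isIntegral ⟨F.map (residue A), fun h => ?_, ?_⟩
    · have h' := congrArg (fun P => Polynomial.coeff P j) h
      simp only [Polynomial.coeff_map, Polynomial.coeff_zero] at h'
      exact (hj.map (residue A)).ne_zero h'
    · rw [hev, (residue_eq_zero_iff _).2 hF]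
  obtain ⟨q₀, hq₀⟩ := Polynomial.map_surjective (residue A) residue_surjective (minpoly (ResidueField A) t)
  obtain ⟨g, hg, -, hgm⟩ := Polynomial.lifts_and_degree_eq_and_monic
    (show minpoly (ResidueField A) t ∈ Polynomial.lifts (residue A) from ⟨q₀, hq₀⟩) (minpoly.monic hint)
  let P : Ideal (Polynomial A) := (maximalIdeal B).comap (algebraMap (Polynomial A) B)
  haveI : P.IsPrime := Ideal.IsPrime.comap _
  let L := Localization.AtPrime P
  letI : Algebra L B := (lamLoc P rfl).toAlgebra
  haveI : IsScalarTower (Polynomial A) L B := IsScalarTower.of_algebraMap_eq fun x => (IsLocalization.lift_eq _ _).symm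
  haveI : IsLocalHom (algebraMap L B) := isLocalHom_lamLoc P rfl
  obtain ⟨h1, h2, h3⟩ := of_localizedBase (C := Polynomial A) (C' := L) (B := B) P.primeCompl
  have hmax : maximalIdeal B = P.map (algebraMap (Polynomial A) B) := by
    rw [IsScalarTower.algebraMap_eq (Polynomial A) L B, ← Ideal.map_map, Localization.AtPrime.map_eq_maximalIdeal,
      Algebra.FormallyUnramified.map_maximalIdeal]
  have hP : P = (maximalIdeal A).map Polynomial.C ⊔ Ideal.span {g} := by
    refine le_antisymm (fun h hh => ?_) (sup_le (Ideal.map_le_iff_le_comap.2 fun a ha => ?_) ((Ideal.span_singleton_le_iff_mem _).2 ?_))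
    · obtain ⟨u, hu⟩ : minpoly (ResidueField A) t ∣ h.map (residue A) :=
        minpoly.dvd _ _ (by rw [hev, (residue_eq_zero_iff _).2 hh])
      obtain ⟨v, rfl⟩ := Polynomial.map_surjective _ residue_surjective u
      have h5 : h - g * v ∈ (maximalIdeal A).map Polynomial.C := by
        rw [Ideal.mem_map_C_iff]
        intro k
        rw [← residue_eq_zero_iff, ← Polynomial.coeff_map, Polynomial.map_sub, Polynomial.map_mul, hg, hu, sub_self,
          Polynomial.coeff_zero]
      exact (sub_add_cancel h (g * v)) ▸ Submodule.add_mem_sup h5 (Ideal.mul_mem_right v _ (Ideal.mem_span_singleton_self g))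
    · show algebraMap (Polynomial A) B (Polynomial.C a) ∈ maximalIdeal B
      rw [← Polynomial.algebraMap_eq, ← IsScalarTower.algebraMap_apply A (Polynomial A) B]
      exact map_nonunit _ a ha
    · show algebraMap (Polynomial A) B g ∈ maximalIdeal B
      rw [← residue_eq_zero_iff, ← hev, hg, minpoly.aeval]
  refine isParafactorial_of_formallyEtale A B g hgm ?_ hd
  rw [hmax, hP, Ideal.map_sup, Ideal.map_map, ← Polynomial.algebraMap_eq, ← IsScalarTower.algebraMap_eq A (Polynomial A) B,
    Ideal.map_span, Set.image_singleton]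

/-- **Smooth local algebras over normal local rings**: parafactorial when of dimension at least two
and not the generic point of a component of the closed fibre. -/
theorem isParafactorial_of_normal (A₀ B : Type u) [CommRing A₀] [IsNoetherianRing A₀] [CommRing B] [IsNoetherianRing B]
    [IsLocalRing B] [Algebra A₀ B] (n : ℕ) [Algebra (MvPolynomial (Fin n) A₀) B]
    [IsScalarTower A₀ (MvPolynomial (Fin n) A₀) B]
    [Algebra.FormallyEtale (MvPolynomial (Fin n) A₀) B] [Module.Flat (MvPolynomial (Fin n) A₀) B]
    [Algebra.EssFiniteType (MvPolynomial (Fin n) A₀) B] (p : Ideal A₀) [p.IsPrime]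
    (hp : (maximalIdeal B).comap (algebraMap A₀ B) = p)
    [IsDomain (Localization.AtPrime p)] [IsIntegrallyClosed (Localization.AtPrime p)]
    (hdim : (2 : WithBot ℕ∞) ≤ ringKrullDim B)
    (hfib : p.map (algebraMap A₀ B) ≠ maximalIdeal B) : ParaF.IsParafactorialLocalRing B := by
  let A := Localization.AtPrime p
  haveI : IsNoetherianRing A := IsLocalization.isNoetherianRing p.primeCompl A inferInstance
  letI : Algebra A B := (lamLoc p hp).toAlgebra
  haveI : IsScalarTower A₀ A B := IsScalarTower.of_algebraMap_eq fun x => (IsLocalization.lift_eq _ _).symm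
  by_cases hA : ringKrullDim A ≤ 1
  · haveI : Ring.DimensionLEOne A := ⟨fun {q} hq0 hq => by
      by_contra hqm
      have hlt : q < maximalIdeal A := lt_of_le_of_ne (le_maximalIdeal hq.ne_top) fun e => hqm (e ▸ maximalIdeal.isMaximal A)
      have hb : (⊥ : Ideal A) < q := bot_lt_iff_ne_bot.2 hq0
      let c : LTSeries (PrimeSpectrum A) := ((RelSeries.singleton _ (⟨⊥, Ideal.isPrime_bot⟩ : PrimeSpectrum A)).snoc ⟨q, hq⟩
        (by simpa [← PrimeSpectrum.asIdeal_lt_asIdeal] using hb)).snoc ⟨maximalIdeal A, inferInstance⟩ (by simpa [← PrimeSpectrum.asIdeal_lt_asIdeal] using hlt)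
      have := (Order.LTSeries.length_le_krullDim c).trans hA
      simp [c] at this⟩
    haveI : IsDedekindDomain A := {}
    let C' := MvPolynomial (Fin n) A
    letI : Algebra (MvPolynomial (Fin n) A₀) C' := (MvPolynomial.map (algebraMap A₀ A)).toAlgebra
    haveI : IsLocalization (p.primeCompl.map (MvPolynomial.C (σ := Fin n))) C' := MvPolynomial.isLocalization p.primeCompl A
    let vars : Fin n → B := fun i => algebraMap (MvPolynomial (Fin n) A₀) B (MvPolynomial.X i)
    letI : Algebra C' B := (MvPolynomial.aeval (R := A) vars).toRingHom.toAlgebra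
    haveI : IsScalarTower (MvPolynomial (Fin n) A₀) C' B := IsScalarTower.of_algebraMap_eq' (by
      apply MvPolynomial.ringHom_ext
      · intro a
        show _ = MvPolynomial.aeval (R := A) vars (MvPolynomial.map (algebraMap A₀ A) (MvPolynomial.C a))
        rw [MvPolynomial.map_C, MvPolynomial.aeval_C, ← IsScalarTower.algebraMap_apply A₀ A B,
          ← MvPolynomial.algebraMap_eq, ← IsScalarTower.algebraMap_apply A₀ (MvPolynomial (Fin n) A₀) B]
      · intro i
        show _ = MvPolynomial.aeval (R := A) vars (MvPolynomial.map (algebraMap A₀ A) (MvPolynomial.X i))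
        rw [MvPolynomial.map_X, MvPolynomial.aeval_X])
    haveI := isRegularLocalRing_of_formallyEtale (A := C') (C := MvPolynomial (Fin n) A₀) (B := B)
      (p.primeCompl.map (MvPolynomial.C (σ := Fin n)))
    obtain ⟨_, hufd⟩ := S2821.result B
    exact S2834.result B hufd hdim
  -- the chosen variable
  let P : Ideal (MvPolynomial (Fin n) A₀) := (maximalIdeal B).comap (algebraMap (MvPolynomial (Fin n) A₀) B)
  haveI : P.IsPrime := Ideal.IsPrime.comap _
  have hPp : P.comap MvPolynomial.C = p := by
    rw [← hp, Ideal.comap_comap, ← MvPolynomial.algebraMap_eq, ← IsScalarTower.algebraMap_eq]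
  have hne : ¬ P ≤ p.map MvPolynomial.C := fun hle => by
    let L := Localization.AtPrime P
    letI : Algebra L B := (lamLoc P rfl).toAlgebra
    haveI : IsScalarTower (MvPolynomial (Fin n) A₀) L B := IsScalarTower.of_algebraMap_eq fun x => (IsLocalization.lift_eq _ _).symm
    haveI : IsLocalHom (algebraMap L B) := isLocalHom_lamLoc P rfl
    obtain ⟨h1, h2, h3⟩ := of_localizedBase (C := MvPolynomial (Fin n) A₀) (C' := L) (B := B) P.primeCompl
    refine hfib (le_antisymm ?_ ?_)
    · exact Ideal.map_le_iff_le_comap.2 hp.ge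
    · rw [← Algebra.FormallyUnramified.map_maximalIdeal (R := L) (S := B), ← Localization.AtPrime.map_eq_maximalIdeal,
        Ideal.map_map, ← IsScalarTower.algebraMap_eq]
      refine (Ideal.map_mono hle).trans (le_of_eq ?_)
      rw [Ideal.map_map, ← MvPolynomial.algebraMap_eq, ← IsScalarTower.algebraMap_eq]
  cases n with
  | zero => exact absurd (le_map_C_of_isEmpty p P hPp) hne
  | succ m =>
  obtain ⟨i, F, hFP, j, hj⟩ := exists_splitVar p P hPp hne
  let A₁ := MvPolynomial (Fin m) A₀
  let e := splitVar A₀ m i
  let φ : Polynomial A₁ →+* B := (algebraMap (MvPolynomial (Fin (m + 1)) A₀) B).comp e.toRingHom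
  let φ₁ : A₁ →+* B := φ.comp Polynomial.C
  let P' : Ideal A₁ := (maximalIdeal B).comap φ₁
  haveI : P'.IsPrime := Ideal.IsPrime.comap _
  let A' := Localization.AtPrime P'
  haveI : IsNoetherianRing A' := IsLocalization.isNoetherianRing P'.primeCompl A' inferInstance
  letI : Algebra A₁ B := φ₁.toAlgebra
  letI : Algebra A' B := (lamLoc P' rfl).toAlgebra
  haveI : IsScalarTower A₁ A' B := IsScalarTower.of_algebraMap_eq fun x => (IsLocalization.lift_eq _ _).symm
  haveI : IsLocalHom (algebraMap A' B) := isLocalHom_lamLoc P' rfl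
  letI : Algebra (Polynomial A₁) (Polynomial A') := (Polynomial.mapRingHom (algebraMap A₁ A')).toAlgebra
  haveI : IsLocalization (P'.primeCompl.map Polynomial.C) (Polynomial A') := Polynomial.isLocalization P'.primeCompl A'
  letI : Algebra (Polynomial A') B := (Polynomial.aeval (φ Polynomial.X) : Polynomial A' →ₐ[A'] B).toRingHom.toAlgebra
  haveI : IsScalarTower A' (Polynomial A') B := IsScalarTower.of_algebraMap_eq fun x =>
    ((Polynomial.aeval (φ Polynomial.X) : Polynomial A' →ₐ[A'] B).commutes x).symm
  letI : Algebra (Polynomial A₁) B := φ.toAlgebra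
  haveI : IsScalarTower (Polynomial A₁) (Polynomial A') B := IsScalarTower.of_algebraMap_eq' (by
    apply Polynomial.ringHom_ext
    · intro a
      show φ₁ a = Polynomial.aeval (φ Polynomial.X) ((Polynomial.C a).map (algebraMap A₁ A'))
      rw [Polynomial.map_C, Polynomial.aeval_C, ← IsScalarTower.algebraMap_apply A₁ A' B]
      rfl
    · show φ Polynomial.X = Polynomial.aeval (φ Polynomial.X) (Polynomial.X.map (algebraMap A₁ A'))
      rw [Polynomial.map_X, Polynomial.aeval_X])
  letI : Algebra (Polynomial A₁) (MvPolynomial (Fin (m + 1)) A₀) := e.toRingHom.toAlgebra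
  haveI : IsScalarTower (Polynomial A₁) (MvPolynomial (Fin (m + 1)) A₀) B := IsScalarTower.of_algebraMap_eq fun _ => rfl
  let ee : Polynomial A₁ ≃ₐ[Polynomial A₁] MvPolynomial (Fin (m + 1)) A₀ :=
    AlgEquiv.ofRingEquiv (f := e.toRingEquiv) fun _ => rfl
  haveI : Algebra.FormallyEtale (Polynomial A₁) (MvPolynomial (Fin (m + 1)) A₀) := .of_equiv ee
  haveI : Module.Flat (Polynomial A₁) (MvPolynomial (Fin (m + 1)) A₀) := Module.Flat.of_linearEquiv ee.toLinearEquiv.symm
  haveI : Algebra.FiniteType (Polynomial A₁) (MvPolynomial (Fin (m + 1)) A₀) := Algebra.FiniteType.equiv inferInstance ee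
  haveI : Algebra.FormallyEtale (Polynomial A₁) B := .comp _ (MvPolynomial (Fin (m + 1)) A₀) _
  haveI : Module.Flat (Polynomial A₁) B := .trans _ (MvPolynomial (Fin (m + 1)) A₀) _
  haveI : Algebra.EssFiniteType (Polynomial A₁) B := .comp _ (MvPolynomial (Fin (m + 1)) A₀) _
  obtain ⟨h1, h2, h3⟩ := of_localizedBase (C := Polynomial A₁) (C' := Polynomial A') (B := B) (P'.primeCompl.map Polynomial.C)
  -- depth of the new base
  have hP'p : P'.comap (algebraMap A₀ A₁) = p := by
    rw [Ideal.comap_comap, ← hp, IsScalarTower.algebraMap_eq A₀ (MvPolynomial (Fin (m + 1)) A₀) B]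
    congr 1
    ext a
    show algebraMap (MvPolynomial (Fin (m + 1)) A₀) B (e (Polynomial.C (algebraMap A₀ A₁ a))) = _
    refine congrArg (algebraMap (MvPolynomial (Fin (m + 1)) A₀) B) ((congrArg e ?_).trans (e.commutes a))
    rw [IsScalarTower.algebraMap_apply A₀ A₁ (Polynomial A₁), Polynomial.algebraMap_eq]
  let lam : A →+* A' := Localization.localRingHom p P' (algebraMap A₀ A₁) hP'p.symm
  letI : Algebra A A' := lam.toAlgebra
  haveI : IsScalarTower A₀ A A' := IsScalarTower.of_algebraMap_eq fun a => by
    show _ = lam (algebraMap A₀ A a)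
    rw [Localization.localRingHom_to_map, ← IsScalarTower.algebraMap_apply]
  haveI : IsLocalHom (algebraMap A A') := Localization.isLocalHom_localRingHom p P' _ hP'p.symm
  haveI : Module.Flat A A' := by
    haveI : Module.Flat A₀ A' :=
      haveI : Module.Flat A₁ A' := IsLocalization.flat A' P'.primeCompl
      Module.Flat.trans A₀ A₁ A'
    exact (Module.flat_iff_of_isLocalization A p.primeCompl A').2 inferInstance
  haveI : IsLocalRing (A' ⧸ (maximalIdeal A).map (algebraMap A A')) := by
    haveI : Nontrivial (A' ⧸ (maximalIdeal A).map (algebraMap A A')) :=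
      Ideal.Quotient.nontrivial_iff.2 (ne_top_of_le_ne_top (maximalIdeal.isMaximal A').ne_top
        (Ideal.map_le_iff_le_comap.2 fun a ha => map_nonunit _ a ha))
    exact IsLocalRing.of_surjective' _ Ideal.Quotient.mk_surjective
  have hd : (2 : ℕ∞) ≤ LocCoh.depth A' A' := by
    rw [FlatDepth.depth_ring (A := A)]
    exact le_add_right (SerreLib.two_le_depth_of_normal (not_le.1 hA))
  have hFm : algebraMap (Polynomial A') B (F.map (algebraMap A₁ A')) ∈ maximalIdeal B := by
    show algebraMap (Polynomial A') B (algebraMap (Polynomial A₁) (Polynomial A') F) ∈ _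
    rw [← IsScalarTower.algebraMap_apply (Polynomial A₁) (Polynomial A') B]
    exact hFP
  refine isParafactorial_of_variable A' B _ hFm j ?_ hd
  rw [Polynomial.coeff_map]
  exact IsLocalization.map_units A' (⟨F.coeff j, hj⟩ : P'.primeCompl)

end Groth.Agent.SmoothParaLib
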