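import Groth.Agent.S2363
import Groth.Agent.RatliffLib.Formal
import Groth.Agent.Depth.FlatLocal
import Groth.Agent.ArtFunLib.PS
import Groth.Agent.RamSamLib.DepthTwo

/-!
# Complete flat extensions with prescribed residue field, and their power series rings
-/

set_option autoImplicit false
set_option linter.style.haveILetI false

universe u

open IsLocalRing

noncomputable section

namespace Groth.Agent.SmoothParaLib

/-- A complete noetherian local flat extension with residue field containing `K`, keeping the depth. -/
theorem exists_complete_ext (A : Type u) [CommRing A] [IsNoetherianRing A] [IsLocalRing A]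
    (K : Type u) [Field K] [Algebra (ResidueField A) K] :
    ∃ (A₁ : Type u) (_ : CommRing A₁) (_ : IsLocalRing A₁) (_ : IsNoetherianRing A₁) (_ : Algebra A A₁)
      (_ : IsAdicComplete (maximalIdeal A₁) A₁) (_ : IsLocalHom (algebraMap A A₁)) (_ : Module.Flat A A₁),
      (maximalIdeal A).map (algebraMap A A₁) = maximalIdeal A₁ ∧
      LocCoh.depth A₁ A₁ = LocCoh.depth A A ∧
      ∃ j : K →+* A₁ ⧸ maximalIdeal A₁, ∀ a : A,
        j (algebraMap (ResidueField A) K (residue A a)) = Ideal.Quotient.mk _ (algebraMap A A₁ a) := by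
  obtain ⟨B, _, _, hBn, hBl, hBh, hBf, e, he⟩ := S2363.result (A := A) K
  haveI := hBn
  haveI := hBl
  haveI := hBh
  haveI := hBf
  have hmB : (maximalIdeal A).map (algebraMap A B) = maximalIdeal B := by
    refine eq_maximalIdeal (Ideal.Quotient.maximal_of_isField _ ?_)
    exact e.toMulEquiv.isField (Field.toIsField K)
  obtain ⟨_, hn, hcomp, hloc, hmax⟩ := RatliffLib.compl_facts B
  haveI := hn
  haveI := hcomp
  haveI := hloc
  let A₁ := AdicCompletion (maximalIdeal B) B
  haveI : Module.Flat B A₁ := AdicCompletion.flat_of_isNoetherian _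
  haveI : Module.Flat A A₁ := Module.Flat.trans A B A₁
  have hm1 : (maximalIdeal A).map (algebraMap A A₁) = maximalIdeal A₁ := by
    rw [IsScalarTower.algebraMap_eq A B A₁, ← Ideal.map_map, hmB, hmax]
  haveI : IsLocalHom (algebraMap A A₁) := by
    rw [IsScalarTower.algebraMap_eq A B A₁]; exact RingHom.isLocalHom_comp _ _
  refine ⟨A₁, inferInstance, inferInstance, hn, inferInstance, hcomp, inferInstance, inferInstance, hm1,
    Depth.depth_eq_of_map_maximalIdeal A A₁ hm1, ?_⟩
  let q : B ⧸ (maximalIdeal A).map (algebraMap A B) →+* A₁ ⧸ maximalIdeal A₁ :=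
    Ideal.quotientMap (maximalIdeal A₁) (algebraMap B A₁) (by
      rw [hmB, ← Ideal.map_le_iff_le_comap, hmax])
  refine ⟨q.comp e.symm.toRingHom, fun a => ?_⟩
  have h1 : e.symm (algebraMap (ResidueField A) K (residue A a)) = Ideal.Quotient.mk _ (algebraMap A B a) := by
    rw [← he a, RingEquiv.symm_apply_apply]
  show q (e.symm _) = _
  rw [h1, Ideal.quotientMap_mk, ← IsScalarTower.algebraMap_apply A B A₁]

/-- Power series over a complete noetherian local ring are complete. -/
theorem isAdicComplete_powerSeries (A : Type u) [CommRing A] [IsNoetherianRing A] [IsLocalRing A]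
    [IsAdicComplete (maximalIdeal A) A] :
    IsAdicComplete (maximalIdeal (PowerSeries A)) (PowerSeries A) := by
  obtain ⟨_, _, _, hc⟩ := ArtFunLib.exists_psCRing (Λ := A) (k := ResidueField A) residue_surjective 1
  let e : MvPowerSeries (Fin 1) A ≃+* PowerSeries A :=
    (MvPowerSeries.renameEquiv (R := A) (Equiv.ofUnique (Fin 1) Unit)).toRingEquiv
  rw [← IsAdicComplete.congr_ringEquiv _ e] at hc
  rwa [IsLocalRing.map_ringEquiv_maximalIdeal e] at hc

section

variable (A : Type u) [CommRing A] [IsLocalRing A]

/-- The constant extension of the maximal ideal is the kernel of reduction. -/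
theorem map_C_maximalIdeal [IsNoetherianRing A] :
    (maximalIdeal A).map (PowerSeries.C (R := A)) = RingHom.ker (PowerSeries.map (residue A)) := by
  refine le_antisymm (Ideal.map_le_iff_le_comap.2 fun a ha => ?_) fun f hf => ?_
  · show PowerSeries.map (residue A) (PowerSeries.C a) = 0
    rw [PowerSeries.map_C, (residue_eq_zero_iff a).2 ha, map_zero]
  · refine RamSamLib.mem_map_C_of_coeff_mem (σ := Unit) (IsNoetherian.noetherian _) _ fun d => ?_
    have h1 := congrArg (PowerSeries.coeff (d ())) (RingHom.mem_ker.1 hf)
    rw [PowerSeries.coeff_map, map_zero (PowerSeries.coeff (d ())), residue_eq_zero_iff,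
      PowerSeries.coeff_def (s := d) rfl] at h1
    exact h1

instance isLocalHom_C : IsLocalHom (PowerSeries.C (R := A)) :=
  ⟨fun a ha => by simpa using ha.map (PowerSeries.constantCoeff (R := A))⟩

end

end Groth.Agent.SmoothParaLib
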