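import Groth.Agent.SmoothParaLib.Ext
import Groth.Agent.S0392
import Groth.Agent.S2865
import Groth.Agent.S11940

/-!
# Ramanujam–Samuel for smooth algebras of relative dimension one

`A → B` local, `B` formally étale over `A[X]` with maximal ideal generated by `𝔪_A` and a monic
polynomial. If `depth A ≥ 2` then `B` is parafactorial: it has a flat local map with zero-dimensional
fibre to `A₁[[T]]` for a complete flat extension `A₁` of `A`.
-/

set_option autoImplicit false
set_option linter.style.haveILetI false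

universe u

open IsLocalRing Polynomial
open scoped TensorProduct

noncomputable section

namespace Groth.Agent.SmoothParaLib

/-- A quotient by the first power, compatible with the higher ones. -/
theorem exists_compatible_lift {C B R : Type u} [CommRing C] [CommRing B] [CommRing R] [Algebra C B]
    [Algebra C R] [Algebra.FormallyEtale C B] (J : Ideal R) [IsAdicComplete J R]
    (φ₀ : B →ₐ[C] R ⧸ J) : ∃ ψ : B →ₐ[C] R, ∀ b, Ideal.Quotient.mk J (ψ b) = φ₀ b := by
  have hle : ∀ n : ℕ, J ^ (n + 1) ≤ J := fun n => Ideal.pow_le_self (Nat.succ_ne_zero n)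
  let p : ∀ n : ℕ, (R ⧸ J ^ (n + 1)) →ₐ[C] R ⧸ J := fun n => Ideal.Quotient.factorₐ C (hle n)
  have hnil : ∀ n : ℕ, IsNilpotent (RingHom.ker (p n).toRingHom) := fun n => by
    refine ⟨n + 1, ?_⟩
    have hk : RingHom.ker (p n).toRingHom = J.map (Ideal.Quotient.mk (J ^ (n + 1))) :=
      Ideal.Quotient.factor_ker (hle n)
    rw [hk, ← Ideal.map_pow, Ideal.map_quotient_self]
    rfl
  let φ : ∀ n : ℕ, B →ₐ[C] R ⧸ J ^ (n + 1) := fun n =>
    Algebra.FormallySmooth.liftOfSurjective φ₀ (p n) (Ideal.Quotient.factor_surjective (hle n)) (hnil n)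
  have hφ : ∀ n b, p n (φ n b) = φ₀ b := fun n b =>
    Algebra.FormallySmooth.liftOfSurjective_apply φ₀ (p n) _ (hnil n) b
  have hcomp : ∀ {m n : ℕ} (h : m ≤ n), (Ideal.Quotient.factorₐ C
      (Ideal.pow_le_pow_right (Nat.add_le_add_right h 1) : J ^ (n + 1) ≤ J ^ (m + 1))).comp (φ n) = φ m := by
    intro m n h
    refine Algebra.FormallyUnramified.ext' (p m).toRingHom (hnil m) _ _ fun b => ?_
    show p m (Ideal.Quotient.factorₐ C (Ideal.pow_le_pow_right (Nat.add_le_add_right h 1)) (φ n b)) = p m (φ m b)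
    rw [hφ m b, ← hφ n b]
    obtain ⟨r, hr⟩ := Ideal.Quotient.mk_surjective (φ n b)
    rw [← hr]
    rfl
  let f : ∀ n : ℕ, B →+* R ⧸ J ^ n := fun n =>
    (Ideal.Quotient.factor (Ideal.pow_le_pow_right (Nat.le_succ n))).comp (φ n).toRingHom
  have hf : ∀ {m n : ℕ} (hle' : m ≤ n), (Ideal.Quotient.factorPow J hle').comp (f n) = f m := by
    intro m n h
    ext b
    show Ideal.Quotient.factor (Ideal.pow_le_pow_right h) (Ideal.Quotient.factor (Ideal.pow_le_pow_right (Nat.le_succ n)) (φ n b)) =
      Ideal.Quotient.factor (Ideal.pow_le_pow_right (Nat.le_succ m)) (φ m b)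
    rw [← DFunLike.congr_fun (hcomp h) b]
    obtain ⟨r, hr⟩ := Ideal.Quotient.mk_surjective (φ n b)
    rw [AlgHom.comp_apply, ← hr]
    rfl
  let e := (AdicCompletion.ofAlgEquiv J).symm.toRingEquiv
  let ψ₀ : B →+* R := e.toRingHom.comp (AdicCompletion.liftRingHom J f hf)
  have hψ : ∀ n b, Ideal.Quotient.mk (J ^ n) (ψ₀ b) = f n b := by
    intro n b
    rw [← AdicCompletion.evalₐ_liftRingHom J f hf n b]
    show Ideal.Quotient.mk (J ^ n) ((AdicCompletion.ofAlgEquiv J).symm _) = _
    rw [AdicCompletion.mk_ofAlgEquiv_symm]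
  refine ⟨{ ψ₀ with commutes' := fun c => ?_ }, fun b => ?_⟩
  · refine sub_eq_zero.1 (IsHausdorff.haus (IsAdicComplete.toIsHausdorff (I := J)) _ fun n => ?_)
    rw [smul_eq_mul, Ideal.mul_top, SModEq.zero]
    refine Ideal.Quotient.eq.1 ?_
    show Ideal.Quotient.mk (J ^ n) (ψ₀ (algebraMap C B c)) = _
    rw [hψ]
    show Ideal.Quotient.factor (Ideal.pow_le_pow_right (Nat.le_succ n)) (φ n (algebraMap C B c)) = _
    rw [AlgHom.commutes]
    rfl
  · have h1 := hψ 1 b
    have h2 := congrArg (Ideal.Quotient.factor (le_of_eq (pow_one J))) h1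
    show Ideal.Quotient.mk J (ψ₀ b) = φ₀ b
    rw [← hφ 1 b]
    refine (Eq.trans ?_ h2).trans ?_
    · rfl
    · obtain ⟨r, hr⟩ := Ideal.Quotient.mk_surjective (φ 1 b)
      show Ideal.Quotient.factor (le_of_eq (pow_one J)) (Ideal.Quotient.factor (Ideal.pow_le_pow_right (Nat.le_succ 1)) (φ 1 b)) = p 1 (φ 1 b)
      rw [← hr]
      rfl

/-- **Ramanujam–Samuel, smooth of relative dimension one.** -/
theorem isParafactorial_of_formallyEtale (A B : Type u) [CommRing A] [IsNoetherianRing A] [IsLocalRing A]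
    [CommRing B] [IsNoetherianRing B] [IsLocalRing B] [Algebra A B] [Algebra A[X] B] [IsScalarTower A A[X] B]
    [IsLocalHom (algebraMap A B)] [Algebra.FormallyEtale A[X] B] (g : A[X]) (hg : g.Monic)
    (hmax : maximalIdeal B = (maximalIdeal A).map (algebraMap A B) ⊔ Ideal.span {algebraMap A[X] B g})
    (hd : (2 : ℕ∞) ≤ LocCoh.depth A A) : ParaF.IsParafactorialLocalRing B := by
  obtain ⟨A₁, _, _, _, _, _, _, _, hm₁, hd₁, j, hj⟩ := exists_complete_ext A (ResidueField B)
  let R := PowerSeries A₁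
  haveI : IsAdicComplete (maximalIdeal R) R := isAdicComplete_powerSeries A₁
  haveI : Module.Flat A R :=
    haveI := RamSamLib.flat_powerSeries' A₁
    Module.Flat.trans A A₁ R
  have hC : algebraMap A R = (PowerSeries.C (R := A₁)).comp (algebraMap A A₁) := IsScalarTower.algebraMap_eq A A₁ R
  obtain ⟨a, ha⟩ := Ideal.Quotient.mk_surjective (j (residue B (algebraMap A[X] B X)))
  letI : Algebra A[X] R := (Polynomial.aeval (PowerSeries.C a + PowerSeries.X : R) : A[X] →ₐ[A] R).toAlgebra
  haveI : IsScalarTower A A[X] R := IsScalarTower.of_algebraMap_eq fun x =>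
    ((Polynomial.aeval (PowerSeries.C a + PowerSeries.X : R)).commutes x).symm
  have hmapC : ∀ x ∈ maximalIdeal A₁, (PowerSeries.C x : R) ∈ maximalIdeal R := fun x hx => by
    rw [mem_maximalIdeal, mem_nonunits_iff, PowerSeries.isUnit_iff_constantCoeff, PowerSeries.constantCoeff_C]
    exact (mem_maximalIdeal x).1 hx
  have hX : (PowerSeries.X : R) ∈ maximalIdeal R := by
    rw [mem_maximalIdeal, mem_nonunits_iff, PowerSeries.isUnit_iff_constantCoeff, PowerSeries.constantCoeff_X]
    exact not_isUnit_zero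
  let q : A₁ ⧸ maximalIdeal A₁ →+* R ⧸ maximalIdeal R :=
    Ideal.quotientMap (maximalIdeal R) (PowerSeries.C (R := A₁)) fun x hx => hmapC x hx
  let φ₀' : B →+* R ⧸ maximalIdeal R := q.comp (j.comp (residue B))
  have hcomm : φ₀'.comp (algebraMap A[X] B) = algebraMap A[X] (R ⧸ maximalIdeal R) := by
    apply Polynomial.ringHom_ext
    · intro x
      show q (j (residue B (algebraMap A[X] B (Polynomial.C x)))) = _
      rw [← Polynomial.algebraMap_eq, ← IsScalarTower.algebraMap_apply A A[X] B,
        show residue B (algebraMap A B x) = algebraMap (ResidueField A) (ResidueField B) (residue A x) from rfl, hj,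
        IsScalarTower.algebraMap_apply A[X] R (R ⧸ maximalIdeal R), ← IsScalarTower.algebraMap_apply A A[X] R,
        IsScalarTower.algebraMap_apply A A₁ R]
      rfl
    · show q (j (residue B (algebraMap A[X] B X))) = _
      rw [← ha, Ideal.quotientMap_mk, IsScalarTower.algebraMap_apply A[X] R (R ⧸ maximalIdeal R)]
      refine Ideal.Quotient.eq.2 ?_
      show PowerSeries.C a - Polynomial.aeval (PowerSeries.C a + PowerSeries.X : R) (X : A[X]) ∈ _
      rw [aeval_X, sub_add_cancel_left]
      exact neg_mem hX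
  let φ₀ : B →ₐ[A[X]] R ⧸ maximalIdeal R := { φ₀' with commutes' := fun c => DFunLike.congr_fun hcomm c }
  obtain ⟨ψ, hψ⟩ := exists_compatible_lift (maximalIdeal R) φ₀
  letI : Algebra B R := ψ.toRingHom.toAlgebra
  haveI : IsScalarTower A B R := IsScalarTower.of_algebraMap_eq fun x => by
    show _ = ψ (algebraMap A B x)
    rw [IsScalarTower.algebraMap_apply A A[X] B, AlgHom.commutes, ← IsScalarTower.algebraMap_apply A A[X] R]
  haveI hloc : IsLocalHom (algebraMap B R) := by
    refine ((local_hom_TFAE _).out 0 2).mpr (Ideal.map_le_iff_le_comap.2 fun b hb => ?_)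
    show ψ b ∈ maximalIdeal R
    rw [← Ideal.Quotient.eq_zero_iff_mem, hψ]
    show q (j (residue B b)) = 0
    rw [(residue_eq_zero_iff b).2 hb, map_zero, map_zero]
  -- the fibre over the closed point of `A`
  let P : Ideal R := (maximalIdeal A₁).map (PowerSeries.C (R := A₁))
  have hP : P = RingHom.ker (PowerSeries.map (residue A₁)) := map_C_maximalIdeal A₁
  haveI : P.IsPrime := hP ▸ RingHom.ker_isPrime _
  let I : Ideal B := (maximalIdeal A).map (algebraMap A B)
  have hIP : I.map (algebraMap B R) = P := by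
    rw [Ideal.map_map, ← IsScalarTower.algebraMap_eq A B R, hC, ← Ideal.map_map, hm₁]
  have hgR : ψ (algebraMap A[X] B g) ∉ P := by
    rw [hP, AlgHom.commutes, RingHom.mem_ker]
    show PowerSeries.map (residue A₁) (Polynomial.aeval (PowerSeries.C a + PowerSeries.X : R) g) ≠ 0
    let k := ResidueField A₁
    let ρ : A →+* k := (residue A₁).comp (algebraMap A A₁)
    let G : k[X] := (g.map ρ).comp (X + Polynomial.C (residue A₁ a))
    have h1 : (G : PowerSeries k) =
        PowerSeries.map (residue A₁) (Polynomial.aeval (PowerSeries.C a + PowerSeries.X : R) g) := by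
      show Polynomial.coeToPowerSeries.ringHom ((g.map ρ).eval₂ Polynomial.C _) = _
      rw [Polynomial.eval₂_map, Polynomial.hom_eval₂, Polynomial.aeval_def, Polynomial.hom_eval₂]
      congr 1
      · ext x : 1
        simp [ρ, hC]
      · simp [add_comm]
    rw [← h1, ne_eq, Polynomial.coe_eq_zero_iff]
    exact ((hg.map ρ).comp_X_add_C _).ne_zero
  -- the fibre of `B`
  let D := B ⧸ I
  have hIne : I ≠ ⊤ := ne_top_of_le_ne_top (maximalIdeal.isMaximal B).ne_top (hmax ▸ le_sup_left)
  haveI : Nontrivial D := Ideal.Quotient.nontrivial_iff.2 hIne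
  haveI : IsLocalRing D := IsLocalRing.of_surjective' (Ideal.Quotient.mk I) Ideal.Quotient.mk_surjective
  let π : D := Ideal.Quotient.mk I (algebraMap A[X] B g)
  have hmaxD : maximalIdeal D = Ideal.span {π} := by
    rw [← IsLocalRing.map_maximalIdeal_of_surjective _ (Ideal.Quotient.mk_surjective (I := I)), hmax,
      Ideal.map_sup, Ideal.map_quotient_self, bot_sup_eq, Ideal.map_span, Set.image_singleton]
  let χ : D →+* R ⧸ P := Ideal.quotientMap P (algebraMap B R) (Ideal.map_le_iff_le_comap.1 hIP.le)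
  have hπ : χ π ≠ 0 := fun h => hgR (Ideal.Quotient.eq_zero_iff_mem.1 h)
  have hfac : ∀ x : D, x ≠ 0 → ∃ (v : D) (n : ℕ), IsUnit v ∧ x = v * π ^ n := by
    intro x hx
    classical
    have hex : ∃ n, x ∉ Ideal.span {π ^ n} := by
      by_contra! h
      refine hx ?_
      have := Ideal.iInf_pow_eq_bot_of_isLocalRing (maximalIdeal D) (maximalIdeal.isMaximal D).ne_top
      rw [← Ideal.mem_bot, ← this, Ideal.mem_iInf]
      intro n
      rw [hmaxD, Ideal.span_singleton_pow]
      exact h n
    obtain ⟨n, hn⟩ := Nat.exists_eq_succ_of_ne_zero (n := Nat.find hex) fun h0 =>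
      Nat.find_spec hex (by rw [h0, pow_zero, Ideal.span_singleton_one]; trivial)
    have h1 : x ∈ Ideal.span {π ^ n} := not_not.1 (Nat.find_min hex (by omega))
    obtain ⟨v, hv⟩ := Ideal.mem_span_singleton'.1 h1
    refine ⟨v, n, ?_, hv.symm⟩
    by_contra hu
    obtain ⟨w, rfl⟩ := Ideal.mem_span_singleton'.1 (hmaxD ▸ (mem_maximalIdeal v).2 hu : v ∈ Ideal.span {π})
    refine Nat.find_spec hex ?_
    rw [hn, Ideal.mem_span_singleton']
    exact ⟨w, by rw [← hv, pow_succ']; ring⟩
  have hχ : Function.Injective χ := (injective_iff_map_eq_zero χ).2 fun x hx => by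
    by_contra hx0
    obtain ⟨v, n, hv, rfl⟩ := hfac x hx0
    rw [map_mul, map_pow] at hx
    rcases mul_eq_zero.1 hx with h | h
    · exact (hv.map χ).ne_zero h
    · exact hπ (pow_eq_zero_iff'.1 h).1
  haveI : IsDomain D := hχ.isDomain χ
  haveI : IsPrincipalIdealRing D := IsPrincipalIdealRing.of_prime fun z hz => by
    by_cases h0 : z = ⊥
    · exact h0 ▸ bot_isPrincipal
    obtain ⟨x, hxz, hx0⟩ := Submodule.exists_mem_ne_zero_of_ne_bot h0
    obtain ⟨v, n, hv, rfl⟩ := hfac x hx0
    refine ⟨⟨π, le_antisymm ((le_maximalIdeal hz.ne_top).trans hmaxD.le) ((Ideal.span_singleton_le_iff_mem _).2 ?_)⟩⟩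
    exact hz.mem_of_pow_mem n ((hz.mem_or_mem hxz).resolve_left fun h => hz.ne_top (Ideal.eq_top_of_isUnit_mem _ h hv))
  letI : Algebra D (R ⧸ P) := χ.toAlgebra
  haveI : Module.IsTorsionFree D (R ⧸ P) := .of_smul_eq_zero fun d y h => by
    rw [Algebra.smul_def] at h
    exact (mul_eq_zero.1 h).imp (fun h' => hχ (h'.trans (map_zero χ).symm)) id
  haveI : Module.Flat D (R ⧸ P) := inferInstance
  have hflatBR : Module.Flat B R := by
    refine (S0392.result (R := A) (S := B) (S' := R) (M := R) ?_).2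
    let e₁ : (D ⊗[B] R) ≃ₗ[B] R ⧸ P :=
      (TensorProduct.quotTensorEquivQuotSMul R I).trans (Submodule.Quotient.equiv _ (Submodule.restrictScalars B P)
        (LinearEquiv.refl B R) (by
          rw [Ideal.smul_top_eq_map, hIP]; simp))
    let e₂ : (D ⊗[B] R) ≃ₗ[D] R ⧸ P :=
      { e₁ with
        map_smul' := fun d x => by
          obtain ⟨b, rfl⟩ := Ideal.Quotient.mk_surjective d
          show e₁ (Ideal.Quotient.mk I b • x) = _
          rw [show (Ideal.Quotient.mk I b • x) = b • x from algebraMap_smul D b x, map_smul]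
          show b • e₁ x = χ (Ideal.Quotient.mk I b) * e₁ x
          rw [Ideal.quotientMap_mk]
          exact Algebra.smul_def b (e₁ x) }
    exact Module.Flat.of_linearEquiv e₂
  haveI := hflatBR
  haveI : IsLocalHom (algebraMap A₁ R) := isLocalHom_C A₁
  -- the fibre is zero-dimensional
  let M := (maximalIdeal B).map (algebraMap B R)
  have hMne : M ≠ ⊤ := ne_top_of_le_ne_top (maximalIdeal.isMaximal R).ne_top
    (((local_hom_TFAE (algebraMap B R)).out 0 2).mp hloc)
  have hfib : ringKrullDim (R ⧸ M) = 0 := by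
    haveI : Nontrivial (R ⧸ M) := Ideal.Quotient.nontrivial_iff.2 hMne
    refine le_antisymm (Order.krullDim_nonpos_iff_forall_isMax.2 fun z z' hle => ?_) ringKrullDim_nonneg_of_nontrivial
    haveI := z.isPrime
    haveI := z'.isPrime
    suffices ∀ Q : Ideal R, Q.IsPrime → M ≤ Q → Q = maximalIdeal R by
      have e : ∀ w : PrimeSpectrum (R ⧸ M), w.asIdeal.comap (Ideal.Quotient.mk M) = maximalIdeal R := fun w =>
        this _ (Ideal.IsPrime.comap _) (fun x hx => by
          show Ideal.Quotient.mk M x ∈ w.asIdeal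
          rw [Ideal.Quotient.eq_zero_iff_mem.2 hx]; exact zero_mem _)
      refine le_of_eq (PrimeSpectrum.ext (Ideal.comap_injective_of_surjective _ Ideal.Quotient.mk_surjective ?_))
      rw [e z, e z']
    intro Q hQ hMQ
    have hPQ : P ≤ Q := hIP ▸ (Ideal.map_mono (hmax ▸ le_sup_left)).trans hMQ
    let gR : R := ψ (algebraMap A[X] B g)
    have hgQ : gR ∈ Q := hMQ (Ideal.mem_map_of_mem _ (hmax ▸ Ideal.mem_sup_right (Ideal.mem_span_singleton_self _)))
    have hg0 : gR.map (residue A₁) ≠ 0 := fun h => hgR (hP ▸ h)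
    let h := PowerSeries.divXPowOrder (gR.map (residue A₁))
    obtain ⟨h', hh'⟩ := PowerSeries.map_surjective (residue A₁) residue_surjective h
    have hu : IsUnit h' := isUnit_of_map_unit (PowerSeries.map (residue A₁)) _ (by
      rw [hh', PowerSeries.isUnit_iff_constantCoeff, PowerSeries.constantCoeff_divXPowOrder]
      exact isUnit_iff_ne_zero.2 (PowerSeries.coeff_order hg0))
    let e := (gR.map (residue A₁)).order.toNat
    have hdiff : gR - PowerSeries.X ^ e * h' ∈ P := by
      rw [hP, RingHom.mem_ker, map_sub, map_mul, map_pow, PowerSeries.map_X, hh',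
        PowerSeries.X_pow_order_mul_divXPowOrder, sub_self]
    have hXQ : (PowerSeries.X : R) ∈ Q := by
      have h1 : PowerSeries.X ^ e * h' ∈ Q := by simpa using sub_mem hgQ (hPQ hdiff)
      exact hQ.mem_of_pow_mem e ((hQ.mem_or_mem h1).resolve_right fun hh => hQ.ne_top (Ideal.eq_top_of_isUnit_mem _ hh hu))
    refine le_antisymm (le_maximalIdeal hQ.ne_top) fun x hx => ?_
    have h2 : x - PowerSeries.C (PowerSeries.constantCoeff x) ∈ Ideal.span {(PowerSeries.X : R)} := by
      rw [Ideal.mem_span_singleton, PowerSeries.X_dvd_iff]; simp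
    have h3 : (PowerSeries.C (PowerSeries.constantCoeff x) : R) ∈ Q := hPQ (Ideal.mem_map_of_mem _ (by
      rw [mem_maximalIdeal] at hx ⊢
      exact fun hc => hx (PowerSeries.isUnit_iff_constantCoeff.2 hc)))
    simpa using add_mem ((Ideal.span_singleton_le_iff_mem _).2 hXQ h2) h3
  exact S2865.result B R hfib (S11940.result A₁ (hd₁ ▸ hd))

end Groth.Agent.SmoothParaLib
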